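import Cfsg.Agent.PreUniq.Fi24S
import Cfsg.Agent.CTwoTab.FiTF
import Cfsg.Agent.LThreeCo1.FourCo1
import Cfsg.Agent.KFacts.AutLarge
import Cfsg.Agent.Lib.GenFitting
import Cfsg.Agent.J2.ExtQuot

set_option autoImplicit false
set_option linter.unusedSectionVars false

/-!
# `Fi24'`: the structure of the centralizer of the 2-central involution (helper832)

`Concl X`: `F*(X) = Q` is extraspecial of order `2 ^ 13` and there are normal subgroups `Q ≤ N ≤ M` of `X` with
`|N : Q| = 3`, `M / N ≅ PSU(4, 3)`, `|X : M| = 2`.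

* `Concl.of_equiv` : transport;
* `concl_z0` : the statement for `C(z0)` in the presented `Fi24'`;
* `concl_of` : the statement for the product of four commuting transpositions in a group `G ≃* Fi24`.
-/

namespace Cfsg.Agent.H832.FourProd

open Cfsg Subgroup

universe u v

/-- the structure of the centralizer -/
def Concl (X : Type u) [Group X] : Prop :=
  ∃ (Q : Subgroup X) (_ : Q.Normal), generalizedFittingSubgroup X = Q ∧ IsExtraspecial 2 ↥Q ∧
    Nat.card Q = 2 ^ 13 ∧ ∃ (N M : Subgroup X) (_ : N.Normal) (_ : M.Normal), Q ≤ N ∧ N ≤ M ∧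
      Nat.card N = 3 * Nat.card Q ∧
      (∃ (K : Type) (_ : Field K) (_ : Fintype K), Fintype.card K = 9 ∧
        Nonempty (↥M ⧸ N.subgroupOf M ≃* PSU 4 K 3)) ∧ M.index = 2

theorem card_map {X : Type u} {Y : Type v} [Group X] [Group Y] (e : X ≃* Y) (H : Subgroup X) :
    Nat.card ↥(H.map e.toMonoidHom) = Nat.card ↥H :=
  (Nat.card_congr (H.equivMapOfInjective e.toMonoidHom e.injective).toEquiv).symm

theorem Concl.of_equiv {X : Type u} {Y : Type v} [Group X] [Group Y] [Finite X] (e : X ≃* Y)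
    (h : Concl X) : Concl Y := by
  obtain ⟨Q, hQ, h1, h2, h3, N, M, hN, hM, h4, h5, h6, ⟨K, _, _, hK, ⟨f⟩⟩, h7⟩ := h
  refine ⟨Q.map e.toMonoidHom, hQ.map _ e.surjective, ?_, ?_, ?_, N.map e.toMonoidHom,
    M.map e.toMonoidHom, hN.map _ e.surjective, hM.map _ e.surjective, Subgroup.map_mono h4,
    Subgroup.map_mono h5, ?_, ⟨K, inferInstance, inferInstance, hK, ?_⟩, ?_⟩
  · rw [← Cfsg.Agent.Lib.GenFitting.map_genFitting e, h1]
  · exact Cfsg.Agent.J2.ExtQuot.isExtraspecial_of_equiv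
      (Q.equivMapOfInjective e.toMonoidHom e.injective) h2
  · rw [card_map, h3]
  · rw [card_map, card_map, h6]
  · have hN' := hN.map e.toMonoidHom e.surjective
    have key : (N.subgroupOf M).map (M.equivMapOfInjective e.toMonoidHom e.injective).toMonoidHom =
        (N.map e.toMonoidHom).subgroupOf (M.map e.toMonoidHom) := by
      ext y
      rw [mem_subgroupOf]
      constructor
      · rintro ⟨x, hx, rfl⟩
        exact ⟨(x : X), mem_subgroupOf.1 hx, rfl⟩
      · rintro ⟨x, hx, hxy⟩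
        exact ⟨⟨x, h5 hx⟩, mem_subgroupOf.2 hx, Subtype.ext hxy⟩
    exact ⟨(QuotientGroup.congr _ _ (M.equivMapOfInjective e.toMonoidHom e.injective) key).symm.trans f⟩
  · exact (Subgroup.index_map_equiv M e).trans h7

open Cfsg.Agent.PreUniq.FiTF.Z Cfsg.Agent.CTwoTab.FiTF Cfsg.Agent.KFacts.FiTF
open Cfsg.Agent.KFacts.FiTF.Defs
open Cfsg.Agent.OrdDiv Cfsg.Agent.CpAut

/-- `E / Zc ≅ PSU(4, 3)` -/
theorem exists_psu (T : OrderTable.{0}) (hA : AllKnown.{0}) :
    ∃ (F : Type) (_ : Field F) (_ : Fintype F), Fintype.card F = 9 ∧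
      Nonempty (Cfsg.Agent.PreUniq.FiTF.Z.S ≃* PSU 4 F 3) := by
  obtain ⟨g, hg, hr, hc⟩ := exists_good T (hA Cfsg.Agent.PreUniq.FiTF.Z.S) (fun h => by
    obtain ⟨a, b, hab⟩ := not_comm
    exact hab (h a b)) (l := [(2, 21), (3, 7), (5, 1), (7, 1)]) (N := 2 ^ 21 * 3 ^ 7 * 5 * 7)
    (by decide +kernel) card_dvd
  have h1 : g ∈ (cands [(2, 21), (3, 7), (5, 1), (7, 1)] (2 ^ 21 * 3 ^ 7 * 5 * 7)).filter
      (fun g => Nat.ble 3265920 (ordN g)) := by
    rw [List.mem_filter]
    refine ⟨hg, ?_⟩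
    rw [← hc]
    exact Nat.ble_eq_true_of_le card_ge
  rw [cands_eq, List.mem_singleton] at h1
  subst h1
  exact hr

/-- `C(z0)` in the presented `Fi24'` -/
abbrev Cz : Subgroup Spor.Fi24' := centralizer ({z0} : Set Spor.Fi24')

theorem irr0 : Cfsg.Agent.KFacts.LargeO2.Irr R0 z0 := by
  intro N hN hn
  rcases frame.irr (N.map (commutator Spor.Fi24).subtype) (by
      rintro _ ⟨x, hx, rfl⟩
      exact mem_subgroupOf.1 (hN hx)) (by
      rintro g hg _ ⟨x, hx, rfl⟩
      exact ⟨⟨g, frame.EK hg⟩ * x * ⟨g, frame.EK hg⟩⁻¹,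
        hn ⟨g, frame.EK hg⟩ (Subtype.ext (frame.Ez g hg)) x hx, rfl⟩) with h | h
  · left
    intro y hy
    rcases h y ⟨y, hy, rfl⟩ with h1 | h1
    · exact Or.inl (Subtype.ext h1)
    · exact Or.inr (Subtype.ext h1)
  · right
    apply le_antisymm hN
    intro x hx
    have h1 : (x : Spor.Fi24) ∈ N.map (commutator Spor.Fi24).subtype := by
      rw [h]; exact mem_subgroupOf.1 hx
    obtain ⟨y, hy, hyx⟩ := h1
    have : y = x := Subtype.ext hyx
    rwa [← this]

theorem large0 : Cfsg.Agent.Co2Type.Quad.Large R0 z0 where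
  z_mem := z0_mem
  z_ne h := frame.z1 (congrArg Subtype.val h)
  z_sq := Subtype.ext frame.zz
  comm_z x hx := mem_centralizer_singleton_iff.1 (R0_le hx)
  conj_mem g hg x hx := R0_norm g (mem_centralizer_singleton_iff.2 hg) x hx
  sq x hx := by
    rcases frame.sq x (mem_subgroupOf.1 hx) with h | h
    · exact Or.inl (Subtype.ext h)
    · exact Or.inr (Subtype.ext h)
  comm x hx y hy := by
    rcases (Abs.large frame).comm x (mem_subgroupOf.1 hx) y (mem_subgroupOf.1 hy) with h | h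
    · exact Or.inl (Subtype.ext h)
    · exact Or.inr (Subtype.ext h)
  cent x _ hc := R0_cent x hc
  self g _ hc := by
    rcases R0_cent g hc with rfl | rfl
    · exact R0.one_mem
    · exact z0_mem

theorem exists_ne : ∃ x ∈ R0, x ≠ 1 ∧ x ≠ z0 := by
  obtain ⟨x, hx, h1, h2⟩ := Abs.exists_nontriv frame
  exact ⟨⟨x, R_le hx⟩, mem_subgroupOf.2 hx, fun h => h1 (congrArg Subtype.val h),
    fun h => h2 (congrArg Subtype.val h)⟩

theorem concl_z0 (T : OrderTable.{0}) (hA : AllKnown.{0}) : Concl ↥Cz := by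
  have hfin : Finite Spor.Fi24 := Cfsg.Agent.R08.FiTwentyFour.finite_Fi24
  have hfin' : Finite Spor.Fi24' := inferInstance
  have hEK : E ≤ commutator Spor.Fi24 := frame.EK
  have hZK : Zc ≤ commutator Spor.Fi24 := Zc_le.trans hEK
  have hEC : E.subgroupOf (commutator Spor.Fi24) ≤ Cz := fun x hx =>
    mem_centralizer_singleton_iff.2 (Subtype.ext (frame.Ez _ (mem_subgroupOf.1 hx)))
  have hZC : Zc.subgroupOf (commutator Spor.Fi24) ≤ Cz := fun x hx =>
    hEC (mem_subgroupOf.2 (Zc_le (mem_subgroupOf.1 hx)))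
  have hcz : ∀ c : ↥Cz, ((c : Spor.Fi24') : Spor.Fi24) * z = z * ((c : Spor.Fi24') : Spor.Fi24) :=
    fun c => congrArg Subtype.val (mem_centralizer_singleton_iff.1 c.2)
  -- the subgroups
  have hNn : ((Zc.subgroupOf (commutator Spor.Fi24)).subgroupOf Cz).Normal :=
    ⟨fun n hn c => mem_subgroupOf.2 (mem_subgroupOf.2 (Zc_norm (hcz c)
      (mem_subgroupOf.1 (mem_subgroupOf.1 hn))))⟩
  have hMn : ((E.subgroupOf (commutator Spor.Fi24)).subgroupOf Cz).Normal :=
    ⟨fun n hn c => mem_subgroupOf.2 (mem_subgroupOf.2 (PerfE.conj_E (hcz c) _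
      (mem_subgroupOf.1 (mem_subgroupOf.1 hn))))⟩
  have hQn : (R0.subgroupOf Cz).Normal :=
    ⟨fun n hn c => mem_subgroupOf.2 (R0_norm _ c.2 _ (mem_subgroupOf.1 hn))⟩
  have hQc : Nat.card ↥(R0.subgroupOf Cz) = 2 ^ 13 := by
    rw [Nat.card_congr (subgroupOfEquivOfLe R0_le).toEquiv, R0_card]
  have hNc : Nat.card ↥((Zc.subgroupOf (commutator Spor.Fi24)).subgroupOf Cz) = 24576 := by
    rw [Nat.card_congr (subgroupOfEquivOfLe hZC).toEquiv,
      Nat.card_congr (subgroupOfEquivOfLe hZK).toEquiv, card_Zc_eq T hA]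
  refine ⟨R0.subgroupOf Cz, hQn, ?_, ?_, hQc, (Zc.subgroupOf (commutator Spor.Fi24)).subgroupOf Cz,
    (E.subgroupOf (commutator Spor.Fi24)).subgroupOf Cz, hNn, hMn, ?_, ?_, ?_, ?_, ?_⟩
  · exact Cfsg.Agent.LThreeCo1.GL.genFit_cent large0 irr0 exists_ne
  · exact Cfsg.Agent.J2.ExtQuot.isExtraspecial_of_equiv (subgroupOfEquivOfLe R0_le).symm
      (Cfsg.Agent.KFacts.AutLarge.extraspecial large0 exists_ne)
  · intro x hx
    exact mem_subgroupOf.2 (mem_subgroupOf.2 (R_le_Zc (mem_subgroupOf.1 (mem_subgroupOf.1 hx))))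
  · intro x hx
    exact mem_subgroupOf.2 (mem_subgroupOf.2 (Zc_le (mem_subgroupOf.1 (mem_subgroupOf.1 hx))))
  · rw [hNc, hQc]
    norm_num
  · obtain ⟨F, i1, i2, hF, ⟨f⟩⟩ := exists_psu T hA
    refine ⟨F, i1, i2, hF, ?_⟩
    let e1 : ↥((E.subgroupOf (commutator Spor.Fi24)).subgroupOf Cz) ≃* ↥E :=
      (subgroupOfEquivOfLe hEC).trans (subgroupOfEquivOfLe hEK)
    have key : (((Zc.subgroupOf (commutator Spor.Fi24)).subgroupOf Cz).subgroupOf
        ((E.subgroupOf (commutator Spor.Fi24)).subgroupOf Cz)).map e1.toMonoidHom =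
        Zc.subgroupOf E := by
      ext y
      rw [mem_subgroupOf]
      constructor
      · rintro ⟨x, hx, rfl⟩
        exact mem_subgroupOf.1 (mem_subgroupOf.1 (mem_subgroupOf.1 hx))
      · intro hy
        have hyK : (y : Spor.Fi24) ∈ commutator Spor.Fi24 := hEK y.2
        have hyC : (⟨y, hyK⟩ : Spor.Fi24') ∈ Cz := hEC (mem_subgroupOf.2 y.2)
        exact ⟨⟨⟨⟨y, hyK⟩, hyC⟩, mem_subgroupOf.2 (mem_subgroupOf.2 y.2)⟩,
          mem_subgroupOf.2 (mem_subgroupOf.2 (mem_subgroupOf.2 hy)), rfl⟩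
    exact ⟨(QuotientGroup.congr _ _ e1 key).trans f⟩
  · exact relIndex_eq T hA

/-- **The product of four commuting transpositions in a copy of `Fi24`.** -/
theorem concl_of (T : OrderTable.{0}) (hA : AllKnown.{0}) {G : Type u} [Group G] {D : Set G}
    (e : Spor.Fi24 ≃* G) (he : e '' R08.FiTwentyFour.L = D) {zz : G} {l : List G}
    (hn : l.Nodup) (hlen : l.length = 4) (hD : ∀ a ∈ l, a ∈ D)
    (hc : ∀ a ∈ l, ∀ b ∈ l, Commute a b) (hp : l.prod = zz) :
    Concl ↥(commutator G ⊓ centralizer ({zz} : Set G)) := by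
  have hfin : Finite Spor.Fi24 := Cfsg.Agent.R08.FiTwentyFour.finite_Fi24
  have hfin' : Finite Spor.Fi24' := inferInstance
  obtain ⟨a, b, c, d, rfl⟩ : ∃ a b c d, l = [a, b, c, d] := by
    match l, hlen with
    | [a, b, c, d], _ => exact ⟨a, b, c, d, rfl⟩
  have hL : ∀ x ∈ [a, b, c, d], e.symm x ∈ R08.FiTwentyFour.L := by
    intro x hx
    have h1 := hD x hx
    rw [← he] at h1
    obtain ⟨y, hy, rfl⟩ := h1
    rwa [e.symm_apply_apply]
  have hcm : ∀ x ∈ [a, b, c, d], ∀ y ∈ [a, b, c, d], Commute (e.symm x) (e.symm y) :=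
    fun x hx y hy => (hc x hx y hy).map e.symm
  have ma : a ∈ [a, b, c, d] := by simp
  have mb : b ∈ [a, b, c, d] := by simp
  have mc : c ∈ [a, b, c, d] := by simp
  have md : d ∈ [a, b, c, d] := by simp
  simp only [List.nodup_cons, List.mem_cons, List.not_mem_nil, or_false, not_or, List.nodup_nil,
    and_true, not_false_eq_true] at hn
  obtain ⟨⟨nab, nac, nad⟩, ⟨nbc, nbd⟩, ncd⟩ := hn
  have hzz : zz = a * b * c * d := by
    rw [← hp]; simp [mul_assoc]
  have tet : R08.TetTwo.IsTet R08.FiTwentyFour.L (e.symm zz) (e.symm a) (e.symm b) (e.symm c)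
      (e.symm d) :=
    { ha := hL a ma, hb := hL b mb, hc := hL c mc, hd := hL d md
      ab := hcm a ma b mb, ac := hcm a ma c mc, ad := hcm a ma d md, bc := hcm b mb c mc
      bd := hcm b mb d md, cd := hcm c mc d md
      nab := fun h => nab (e.symm.injective h), nac := fun h => nac (e.symm.injective h)
      nad := fun h => nad (e.symm.injective h), nbc := fun h => nbc (e.symm.injective h)
      nbd := fun h => nbd (e.symm.injective h), ncd := fun h => ncd (e.symm.injective h)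
      prod := by rw [hzz, map_mul, map_mul, map_mul] }
  have h3 := Tet.isTet (t := 0) (by norm_num)
  obtain ⟨g, -, e1, e2, e3, e4⟩ := R08.TetBig.quad R08.TetBigInst.hyp h3 tet
  have hg' : e.symm zz = g * z * g⁻¹ := by
    rw [← h3.prod, ← tet.prod, R08.TetBig.conj_mul, R08.TetBig.conj_mul, R08.TetBig.conj_mul, e1, e2,
      e3, e4]
  -- the isomorphism
  let e1 : Spor.Fi24 ≃* G := (MulAut.conj g).trans e
  have he1 : e1 z = zz := by
    show e (g * z * g⁻¹) = zz
    rw [← hg', e.apply_symm_apply]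
  have hmap : (commutator Spor.Fi24).map e1.toMonoidHom = commutator G := by
    rw [_root_.commutator_def, _root_.commutator_def, map_commutator]
    have : (⊤ : Subgroup Spor.Fi24).map e1.toMonoidHom = ⊤ :=
      Subgroup.map_top_of_surjective _ e1.surjective
    rw [this]
  have hc1 : ∀ x : Spor.Fi24, x ∈ commutator Spor.Fi24 ↔ e1 x ∈ commutator G := by
    intro x
    rw [← hmap]
    constructor
    · intro hx; exact ⟨x, hx, rfl⟩
    · rintro ⟨y, hy, hyx⟩
      have : y = x := e1.injective hyx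
      rwa [← this]
  let f : ↥Cz ≃* ↥(commutator G ⊓ centralizer ({zz} : Set G)) :=
    { toFun := fun x => ⟨e1 ((x : Spor.Fi24') : Spor.Fi24), (hc1 _).1 x.1.2, by
        have h1 : ((x : Spor.Fi24') : Spor.Fi24) * z = z * ((x : Spor.Fi24') : Spor.Fi24) :=
          congrArg Subtype.val (mem_centralizer_singleton_iff.1 x.2)
        have h2 : e1 ((x : Spor.Fi24') : Spor.Fi24) ∈ centralizer ({zz} : Set G) := by
          rw [mem_centralizer_singleton_iff, ← he1, ← map_mul, h1, map_mul]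
        exact h2⟩
      invFun := fun y => ⟨⟨e1.symm y, (hc1 _).2 (by rw [e1.apply_symm_apply]; exact y.2.1)⟩, by
        have h1 := mem_centralizer_singleton_iff.1 y.2.2
        rw [mem_centralizer_singleton_iff]
        apply Subtype.ext
        show e1.symm y * z = z * e1.symm y
        apply e1.injective
        rw [map_mul, map_mul, e1.apply_symm_apply, he1, h1]⟩
      left_inv := fun x => Subtype.ext (Subtype.ext (e1.symm_apply_apply _))
      right_inv := fun y => Subtype.ext (e1.apply_symm_apply _)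
      map_mul' := fun x y => Subtype.ext (by
        show e1 (((x * y : ↥Cz) : Spor.Fi24') : Spor.Fi24) = _
        push_cast
        rw [map_mul]) }
  exact (concl_z0 T hA).of_equiv f

end Cfsg.Agent.H832.FourProd
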