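import Mathlib
import Cfsg.Agent.H845.T6Iso
import Cfsg.Agent.H831.Short
import Cfsg.Agent.KFacts.FiTT.AllPairs
import Cfsg.Agent.TSp.UCount

set_option autoImplicit false

/-!
# Type `T6`: products of three commuting transpositions

* `hexad` : three distinct commuting members `d₁, d₂, d₃` of a class of type `T6` lie in a hexad
  `{d₁, d₂, d₃, a, b, c}` with `d₁ d₂ d₃ = a b c`, and `{d₁, d₂, d₃}`, `{a, b, c}` are the only
  factorisations of `d₁ d₂ d₃`;
* `trans_three` : transitivity on the ordered triples;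
* `card_cent_three` : `|C(d₁ d₂ d₃)| = 2 ^ 16 * 3 ^ 3`.
-/

namespace Cfsg.Agent.H832.ThreeProd

open Cfsg Cfsg.Agent.SporadicStructure.FischerSpace Cfsg.Agent.ThreeTransPolar.Basic
open Cfsg.Agent.ThreeTransPolar.Lines
open Cfsg.Agent.Fischer480.Defs
open Cfsg.Agent.TSp.Perp Cfsg.Agent.TSp.OrdersT
open Cfsg.Agent.H831.Short

universe u

variable {G : Type u} [Group G] {D : Set G}

/-! ### Orbits -/

/-- the orbit of `t` under conjugation by `A` -/
def orb (A : Subgroup G) (t : G) : Set G := {y | ∃ a ∈ A, a * t * a⁻¹ = y}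

theorem card_orb (A : Subgroup G) (t : G) :
    Nat.card A = (orb A t).ncard * Nat.card (A ⊓ Subgroup.centralizer ({t} : Set G) : Subgroup G) := by
  let act : MulAction A G := MulAction.compHom G ((MulAut.conj : G →* MulAut G).comp A.subtype)
  have hsm : ∀ (a : A) (g : G), a • g = (a : G) * g * (a : G)⁻¹ := fun a g => rfl
  have h1 := Nat.card_congr (MulAction.orbitProdStabilizerEquivGroup A t)
  rw [Nat.card_prod] at h1
  rw [← h1]
  congr 1
  · have h2 : MulAction.orbit A t = orb A t := by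
      ext y
      constructor
      · rintro ⟨a, rfl⟩
        exact ⟨a, a.2, rfl⟩
      · rintro ⟨a, ha, rfl⟩
        exact ⟨⟨a, ha⟩, rfl⟩
    rw [h2]
    rfl
  · refine Nat.card_congr
      { toFun := fun x => ⟨(x : A), ⟨(x : A).2, Subgroup.mem_centralizer_singleton_iff.2 ?_⟩⟩
        invFun := fun x => ⟨⟨x, x.2.1⟩, MulAction.mem_stabilizer_iff.2 ?_⟩
        left_inv := fun _ => rfl
        right_inv := fun _ => rfl }
    · have h3 := MulAction.mem_stabilizer_iff.1 x.2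
      rw [hsm] at h3
      exact mul_inv_eq_iff_eq_mul.1 h3
    · rw [hsm]
      exact mul_inv_eq_iff_eq_mul.2 (Subgroup.mem_centralizer_singleton_iff.1 x.2.2)

/-! ### The hexad -/

theorem mul_self_of (hT : IsThreeTranspositionSet D) {x : G} (hx : x ∈ D) : x * x = 1 :=
  Cfsg.Agent.SporadicB.ThreeTrans.mul_self hT hx

theorem loc_cj (FD : FData D) {x a b : G} (ha : a ∈ Loc D x) (hb : b ∈ Loc D x) :
    cj a b ∈ Loc D x :=
  Cfsg.Agent.Fischer160.Inherit.cj_mem_Dx FD ha.2.2.symm hb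

section

variable [Finite G] (F : FGroup D) (h : IsT6 D)
include F h

/-- **The hexad of three commuting members.** -/
theorem hexad {d₁ d₂ d₃ : G} (h₁ : d₁ ∈ D) (h₂ : d₂ ∈ D) (h₃ : d₃ ∈ D) (h12 : d₁ ≠ d₂)
    (h13 : d₁ ≠ d₃) (h23 : d₂ ≠ d₃) (c12 : Commute d₁ d₂) (c13 : Commute d₁ d₃)
    (c23 : Commute d₂ d₃) : ∃ a b c : G, Line (Loc D d₁) d₂ d₃ = {d₂, d₃, a, b, c} ∧
      [d₁, d₂, d₃, a, b, c].Nodup ∧ (∀ u ∈ [d₁, d₂, d₃, a, b, c], u ∈ D) ∧
      (∀ u ∈ [d₁, d₂, d₃, a, b, c], ∀ v ∈ [d₁, d₂, d₃, a, b, c], Commute u v) ∧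
      d₁ * d₂ * d₃ = a * b * c := by
  have hT := F.cls.1
  have F' := inh F
  have h' := n6_of_isT6 h
  have hU := h.2.1 d₁ h₁
  obtain ⟨K, i1, i2, f, U⟩ := Cfsg.Agent.S0480U.UModel.exists_um hU
  have e₂ : d₂ ∈ Loc D d₁ := ⟨h₂, h12.symm, c12⟩
  have e₃ : d₃ ∈ Loc D d₁ := ⟨h₃, h13.symm, c13⟩
  have hcard := Cfsg.Agent.S0480U.UModel.card_line U e₂ e₃ h23 c23
  set L := Line (Loc D d₁) d₂ d₃ with hL
  have hfin : L.Finite := Set.finite_of_ncard_ne_zero (by rw [hcard]; norm_num)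
  have m2 : d₂ ∈ L := mem_Line_left e₂
  have m3 : d₃ ∈ L := mem_Line_right e₃
  have hcard3 : (L \ {d₂, d₃}).ncard = 3 := by
    have hsub : ({d₂, d₃} : Set G) ⊆ L := by
      rintro x (rfl | rfl)
      · exact m2
      · exact m3
    rw [Set.ncard_sdiff hsub (Set.toFinite _), hcard, Set.ncard_pair h23]
  obtain ⟨a, b, c, hab, hac, hbc, habc⟩ := Set.ncard_eq_three.1 hcard3
  have ma : a ∈ L \ {d₂, d₃} := by rw [habc]; simp
  have mb : b ∈ L \ {d₂, d₃} := by rw [habc]; simp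
  have mc : c ∈ L \ {d₂, d₃} := by rw [habc]; simp
  have hLeq : L = {d₂, d₃, a, b, c} := by
    ext x
    constructor
    · intro hx
      by_cases hx' : x ∈ ({d₂, d₃} : Set G)
      · rcases hx' with rfl | rfl <;> simp
      · have : x ∈ L \ {d₂, d₃} := ⟨hx, hx'⟩
        rw [habc] at this
        rcases this with rfl | rfl | rfl <;> simp
    · rintro (rfl | rfl | rfl | rfl | rfl)
      · exact m2
      · exact m3
      · exact ma.1
      · exact mb.1
      · exact mc.1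
  have na2 : a ≠ d₂ := fun h0 => ma.2 (by simp [h0])
  have na3 : a ≠ d₃ := fun h0 => ma.2 (by simp [h0])
  have nb2 : b ≠ d₂ := fun h0 => mb.2 (by simp [h0])
  have nb3 : b ≠ d₃ := fun h0 => mb.2 (by simp [h0])
  have nc2 : c ≠ d₂ := fun h0 => mc.2 (by simp [h0])
  have nc3 : c ≠ d₃ := fun h0 => mc.2 (by simp [h0])
  have hLE : ∀ x ∈ L, x ∈ Loc D d₁ := fun x hx => hx.1
  have hLc : ∀ x ∈ L, ∀ y ∈ L, Commute x y := fun x hx y hy => Line_commute e₂ e₃ c23 hx hy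
  have hnd : [d₁, d₂, d₃, a, b, c].Nodup := by
    simp only [List.nodup_cons, List.mem_cons, List.not_mem_nil, or_false, not_or,
      List.nodup_nil, and_true, not_false_eq_true]
    exact ⟨⟨h12, h13, fun h0 => (hLE a ma.1).2.1 h0.symm, fun h0 => (hLE b mb.1).2.1 h0.symm,
      fun h0 => (hLE c mc.1).2.1 h0.symm⟩, ⟨h23, na2.symm, nb2.symm, nc2.symm⟩,
      ⟨na3.symm, nb3.symm, nc3.symm⟩, ⟨hab, hac⟩, hbc⟩
  have hmem : ∀ u ∈ [d₂, d₃, a, b, c], u ∈ L := by
    intro u hu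
    rw [hLeq]
    simpa using hu
  have hD : ∀ u ∈ [d₁, d₂, d₃, a, b, c], u ∈ D := by
    intro u hu
    rcases List.mem_cons.1 hu with rfl | hu
    · exact h₁
    · exact (hLE u (hmem u hu)).1
  have hcomm : ∀ u ∈ [d₁, d₂, d₃, a, b, c], ∀ v ∈ [d₁, d₂, d₃, a, b, c], Commute u v := by
    intro u hu v hv
    rcases List.mem_cons.1 hu with hu | hu <;> rcases List.mem_cons.1 hv with hv | hv
    · rw [hu, hv]
    · rw [hu]
      exact (hLE v (hmem v hv)).2.2
    · rw [hv]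
      exact (hLE u (hmem u hu)).2.2.symm
    · exact hLc u (hmem u hu) v (hmem v hv)
  refine ⟨a, b, c, hLeq, hnd, hD, hcomm, ?_⟩
  -- the product over the line
  have hnd5 : [d₂, d₃, a, b, c].Nodup := hnd.of_cons
  let B : Fin 5 → G := [d₂, d₃, a, b, c].get
  have hB : ∀ i, B i ∈ L := fun i => hmem _ (List.get_mem [d₂, d₃, a, b, c] i)
  have hBinj : Function.Injective B := List.nodup_iff_injective_get.1 hnd5
  have hall : ∀ t ∈ Loc D d₁, Commute (B 0 * B 1 * B 2 * B 3 * B 4) t := by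
    intro t ht
    exact Cfsg.Agent.S0480U.UModel.prod_line U F'.fd (fun a ha => ha.1)
      (fun a ha b hb => loc_cj F'.fd ha hb) (by norm_num) B (fun i => hLE _ (hB i)) hBinj
      (fun i j => hLc _ (hB i) _ (hB j)) hB ht
  have hprod : B 0 * B 1 * B 2 * B 3 * B 4 = d₂ * d₃ * a * b * c := rfl
  rw [hprod] at hall
  have hHH : d₂ * d₃ * a * b * c ∈ Cfsg.Agent.Fischer160.Inherit.HH D d₁ := by
    have hk : ∀ u ∈ L, u ∈ Cfsg.Agent.Fischer160.Inherit.HH D d₁ := fun u hu =>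
      Subgroup.subset_closure (hLE u hu)
    exact mul_mem (mul_mem (mul_mem (mul_mem (hk _ m2) (hk _ m3)) (hk _ ma.1)) (hk _ mb.1))
      (hk _ mc.1)
  have hcen : (⟨d₂ * d₃ * a * b * c, hHH⟩ : Cfsg.Agent.Fischer160.Inherit.HH D d₁) ∈
      Subgroup.center (Cfsg.Agent.Fischer160.Inherit.HH D d₁) := by
    rw [Subgroup.mem_center_iff]
    rintro ⟨g, hg⟩
    apply Subtype.ext
    show g * (d₂ * d₃ * a * b * c) = d₂ * d₃ * a * b * c * g
    refine Subgroup.closure_induction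
      (p := fun g _ => g * (d₂ * d₃ * a * b * c) = d₂ * d₃ * a * b * c * g) ?_ ?_ ?_ ?_ hg
    · intro t ht
      exact (hall t ht).eq.symm
    · rw [one_mul, mul_one]
    · intro y z _ _ hy hz
      rw [mul_assoc, hz, ← mul_assoc, hy, mul_assoc]
    · intro y _ hy
      exact ((show Commute y (d₂ * d₃ * a * b * c) from hy).inv_left).eq
  have hN := noRel_six hT h
  rcases (Cfsg.Agent.H845.T6Iso.mem_center_iff F' h' h₁).1 hcen with h0 | h0
  · exfalso
    have h1 := hN [d₂, d₃, a, b, c] hnd5 (fun u hu => hD u (List.mem_cons_of_mem _ hu))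
      (fun u hu v hv => hcomm u (List.mem_cons_of_mem _ hu) v (List.mem_cons_of_mem _ hv))
      (by simpa [mul_assoc] using h0) (by simp)
    simp at h1
  · have h0' : d₂ * d₃ * a * b * c = d₁ := h0
    have qa := mul_self_of hT (hD a (by simp))
    have qb := mul_self_of hT (hD b (by simp))
    have qc := mul_self_of hT (hD c (by simp))
    have q2 := mul_self_of hT h₂
    have q3 := mul_self_of hT h₃
    have cab : a * b = b * a := (hcomm a (by simp) b (by simp)).eq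
    have cac : a * c = c * a := (hcomm a (by simp) c (by simp)).eq
    have cbc : b * c = c * b := (hcomm b (by simp) c (by simp)).eq
    have c1d2 : d₁ * d₂ = d₂ * d₁ := c12.eq
    have c1d3 : d₁ * d₃ = d₃ * d₁ := c13.eq
    have key : d₂ * d₃ * (a * b * c) = d₁ := by simpa only [mul_assoc] using h0'
    have e : (a * b * c) = d₃ * d₂ * d₁ := by
      rw [← key]
      calc a * b * c = d₃ * (d₂ * d₂) * d₃ * (a * b * c) := by rw [q2, mul_one, q3, one_mul]
        _ = d₃ * d₂ * (d₂ * d₃ * (a * b * c)) := by simp only [mul_assoc]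
    rw [e]
    calc d₁ * d₂ * d₃ = d₃ * (d₁ * d₂) := by rw [mul_assoc, c23.eq, ← mul_assoc, c1d3, mul_assoc]
      _ = d₃ * d₂ * d₁ := by rw [c1d2, mul_assoc]

omit [Finite G] F h in
/-- a member of `D` commuting with all members which commute with `d₁, d₂, d₃` and different from
`d₁` is in the line -/
theorem mem_line {d₁ d₂ d₃ u : G} (hu : u ∈ D) (hne : u ≠ d₁)
    (c1 : Commute d₁ u) (hall : ∀ k ∈ D, Commute k d₁ → Commute k d₂ → Commute k d₃ → Commute k u) :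
    u ∈ Line (Loc D d₁) d₂ d₃ :=
  ⟨⟨hu, hne, c1⟩, fun k hk h2 h3 => hall k hk.1 hk.2.2.symm h2 h3⟩

omit [Finite G] in
/-- **The factorisations of a product of three commuting members.** -/
theorem factor {d₁ d₂ d₃ a b c : G} (h₁ : d₁ ∈ D) (h₂ : d₂ ∈ D) (h₃ : d₃ ∈ D) (h12 : d₁ ≠ d₂)
    (h13 : d₁ ≠ d₃) (h23 : d₂ ≠ d₃) (c12 : Commute d₁ d₂) (c13 : Commute d₁ d₃)
    (c23 : Commute d₂ d₃) (hL : Line (Loc D d₁) d₂ d₃ = {d₂, d₃, a, b, c})
    {x y z : G} (hx : x ∈ D) (hy : y ∈ D) (hz : z ∈ D) (hxy : x ≠ y) (hxz : x ≠ z) (hyz : y ≠ z)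
    (cxy : Commute x y) (cxz : Commute x z) (cyz : Commute y z)
    (hp : x * y * z = d₁ * d₂ * d₃) :
    (x ∈ ({d₁, d₂, d₃} : Set G) ∧ y ∈ ({d₁, d₂, d₃} : Set G) ∧ z ∈ ({d₁, d₂, d₃} : Set G)) ∨
      (x ∈ ({a, b, c} : Set G) ∧ y ∈ ({a, b, c} : Set G) ∧ z ∈ ({a, b, c} : Set G)) := by
  have hT := F.cls.1
  have hN := noRel_six hT h
  have cm : ∀ k ∈ D, Commute k (d₁ * d₂ * d₃) ↔ (Commute k d₁ ∧ Commute k d₂ ∧ Commute k d₃) :=
    fun k hk => Cfsg.Agent.SporadicB.ThreeTrans.commute_mul_mul_iff hT h₁ h₂ h₃ hk h12 h13 h23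
      c12 c13 c23
  have cm' : ∀ k ∈ D, Commute k (x * y * z) ↔ (Commute k x ∧ Commute k y ∧ Commute k z) :=
    fun k hk => Cfsg.Agent.SporadicB.ThreeTrans.commute_mul_mul_iff hT hx hy hz hk hxy hxz hyz
      cxy cxz cyz
  have kx : Commute x d₁ ∧ Commute x d₂ ∧ Commute x d₃ := by
    rw [← cm x hx, ← hp, cm' x hx]
    exact ⟨Commute.refl x, cxy, cxz⟩
  have ky : Commute y d₁ ∧ Commute y d₂ ∧ Commute y d₃ := by
    rw [← cm y hy, ← hp, cm' y hy]
    exact ⟨cxy.symm, Commute.refl y, cyz⟩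
  have kz : Commute z d₁ ∧ Commute z d₂ ∧ Commute z d₃ := by
    rw [← cm z hz, ← hp, cm' z hz]
    exact ⟨cxz.symm, cyz.symm, Commute.refl z⟩
  -- two lists with the same product and a common member are equal
  have two : ∀ p q r s : G, p ∈ D → q ∈ D → r ∈ D → s ∈ D → p ≠ q → r ≠ s → Commute p q →
      Commute r s → Commute p r → Commute p s → Commute q r → Commute q s → p * q = r * s →
      (p = r ∨ p = s) ∧ (q = r ∨ q = s) := by
    intro p q r s hp hq hr hs hpq hrs cpq crs cpr cps cqr cqs he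
    have hu := Cfsg.Agent.H831.Short.unique hT (m := 2) (hN.mono (by norm_num)) (by norm_num)
      [p, q] [r, s] (by simp [hpq]) (by simp [hrs]) (by simp) (by simp)
      (by simp [hp, hq]) (by simp [hr, hs])
      (by simp [cpq, cpq.symm])
      (by simp [crs, crs.symm]) (by simp [he])
    constructor
    · have := (hu p).1 (by simp)
      simpa using this
    · have := (hu q).1 (by simp)
      simpa using this
  -- if one of them is one of the `d`'s then all are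
  have q1 := mul_self_of hT h₁
  have q2 := mul_self_of hT h₂
  have q3 := mul_self_of hT h₃
  have qx := mul_self_of hT hx
  have qy := mul_self_of hT hy
  have qz := mul_self_of hT hz
  have one : ∀ p q r : G, p ∈ D → q ∈ D → r ∈ D → p ≠ q → p ≠ r → q ≠ r → Commute p q →
      Commute p r → Commute q r → (Commute p d₁ ∧ Commute p d₂ ∧ Commute p d₃) →
      (Commute q d₁ ∧ Commute q d₂ ∧ Commute q d₃) → (Commute r d₁ ∧ Commute r d₂ ∧ Commute r d₃) →
      p * q * r = d₁ * d₂ * d₃ → p ∈ ({d₁, d₂, d₃} : Set G) →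
      (p ∈ ({d₁, d₂, d₃} : Set G) ∧ q ∈ ({d₁, d₂, d₃} : Set G) ∧ r ∈ ({d₁, d₂, d₃} : Set G)) := by
    intro p q r hp hq hr hpq hpr hqr cpq cpr cqr cp cq cr he hpm
    rcases hpm with rfl | rfl | rfl
    · have e1 : q * r = d₂ * d₃ := by
        rw [mul_assoc, mul_assoc] at he
        exact mul_left_cancel he
      have h1 := two q r d₂ d₃ hq hr h₂ h₃ hqr h23 cqr c23 cq.2.1 cq.2.2 cr.2.1 cr.2.2 e1
      simp only [Set.mem_insert_iff, Set.mem_singleton_iff]
      tauto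
    · have e1 : q * r = d₁ * d₃ := by
        have : p * (q * r) = p * (d₁ * d₃) := by
          rw [← mul_assoc, he, c12.eq, mul_assoc]
        exact mul_left_cancel this
      have h1 := two q r d₁ d₃ hq hr h₁ h₃ hqr h13 cqr c13 cq.1 cq.2.2 cr.1 cr.2.2 e1
      simp only [Set.mem_insert_iff, Set.mem_singleton_iff]
      tauto
    · have e1 : q * r = d₁ * d₂ := by
        have : p * (q * r) = p * (d₁ * d₂) := by
          rw [← mul_assoc, he, mul_assoc, c23.eq, ← mul_assoc, c13.eq, mul_assoc]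
        exact mul_left_cancel this
      have h1 := two q r d₁ d₂ hq hr h₁ h₂ hqr h12 cqr c12 cq.1 cq.2.1 cr.1 cr.2.1 e1
      simp only [Set.mem_insert_iff, Set.mem_singleton_iff]
      tauto
  by_cases mx : x ∈ ({d₁, d₂, d₃} : Set G)
  · exact Or.inl (one x y z hx hy hz hxy hxz hyz cxy cxz cyz kx ky kz hp mx)
  by_cases my : y ∈ ({d₁, d₂, d₃} : Set G)
  · have := one y x z hy hx hz hxy.symm hyz hxz cxy.symm cyz cxz ky kx kz
      (by rw [cxy.symm.eq]; exact hp) my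
    exact Or.inl ⟨this.2.1, this.1, this.2.2⟩
  by_cases mz : z ∈ ({d₁, d₂, d₃} : Set G)
  · have := one z x y hz hx hy hxz.symm hyz.symm hxy cxz.symm cyz.symm cxy kz kx ky
      (by rw [mul_assoc, (cxz.symm.mul_right cyz.symm).eq]; exact hp) mz
    exact Or.inl ⟨this.2.1, this.2.2, this.1⟩
  right
  have line : ∀ p : G, p ∈ D → p ∉ ({d₁, d₂, d₃} : Set G) → Commute p d₁ →
      (∀ k ∈ D, Commute k d₁ → Commute k d₂ → Commute k d₃ → Commute k p) →
      p ∈ ({a, b, c} : Set G) := by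
    intro p hp hpn cp hall
    simp only [Set.mem_insert_iff, Set.mem_singleton_iff, not_or] at hpn
    have h1 := mem_line hp hpn.1 cp.symm hall
    rw [hL] at h1
    rcases h1 with h1 | h1 | h1 | h1 | h1
    · exact absurd h1 hpn.2.1
    · exact absurd h1 hpn.2.2
    · simp [h1]
    · simp [h1]
    · rw [Set.mem_singleton_iff] at h1
      simp [h1]
  have all : ∀ k ∈ D, Commute k d₁ → Commute k d₂ → Commute k d₃ →
      Commute k x ∧ Commute k y ∧ Commute k z := by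
    intro k hk k1 k2 k3
    rw [← cm' k hk, hp, cm k hk]
    exact ⟨k1, k2, k3⟩
  exact ⟨line x hx mx kx.1 fun k hk k1 k2 k3 => (all k hk k1 k2 k3).1,
    line y hy my ky.1 fun k hk k1 k2 k3 => (all k hk k1 k2 k3).2.1,
    line z hz mz kz.1 fun k hk k1 k2 k3 => (all k hk k1 k2 k3).2.2⟩

/-! ### Transitivity on the ordered triples -/

/-- **Transitivity on the ordered commuting triples.** -/
theorem trans_three {a b c a' b' c' : G} (ha : a ∈ D) (hb : b ∈ D) (hc : c ∈ D) (hab : a ≠ b)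
    (hac : a ≠ c) (hbc : b ≠ c) (cab : Commute a b) (cac : Commute a c) (cbc : Commute b c)
    (ha' : a' ∈ D) (hb' : b' ∈ D) (hc' : c' ∈ D) (hab' : a' ≠ b') (hac' : a' ≠ c')
    (hbc' : b' ≠ c') (cab' : Commute a' b') (cac' : Commute a' c') (cbc' : Commute b' c') :
    ∃ g : G, g * a * g⁻¹ = a' ∧ g * b * g⁻¹ = b' ∧ g * c * g⁻¹ = c' := by
  obtain ⟨e, -, he⟩ := Cfsg.Agent.H845.T6Iso.exists_iso F h
  have hTK : Cfsg.Agent.KFacts.FiTT.TK e.symm = D := he
  obtain ⟨d, π, lift, B⟩ := Cfsg.Agent.KFacts.FiTT.exists_base_of e.symm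
  rw [hTK] at B
  obtain ⟨g, hg1, hg2⟩ := B.trans a ha b hb a' ha' b' hb' hab hab' cab cab'
  obtain ⟨π', lift', B', hd2⟩ := B.exists_at ha' hb' hab' cab'.eq
  have hcj : ∀ {p q : G}, Commute p q → Commute (g * p * g⁻¹) (g * q * g⁻¹) := by
    intro p q hpq
    exact (Commute.conj_iff g).2 hpq
  have hne : ∀ {p q : G}, p ≠ q → g * p * g⁻¹ ≠ g * q * g⁻¹ := by
    intro p q hpq h0
    exact hpq (mul_left_cancel (mul_right_cancel h0))
  have c1 := hcj cac
  have c2 := hcj cbc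
  have n1 := hne hac
  have n2 := hne hbc
  rw [hg1] at c1 n1
  rw [hg2] at c2 n2
  obtain ⟨w, hw, hw'⟩ := B'.exists_adm (B.conj_mem hc g) c1.symm.eq (by rw [hd2]; exact c2.symm.eq)
    n1.symm (by rw [hd2]; exact n2.symm)
  obtain ⟨v, hv, hv'⟩ := B'.exists_adm hc' cac'.symm.eq (by rw [hd2]; exact cbc'.symm.eq)
    hac'.symm (by rw [hd2]; exact hbc'.symm)
  obtain ⟨k, hk, hkw⟩ := Cfsg.Agent.KFacts.FiTT.Radical.exists_conj B'.lab hw hv
  refine ⟨(k : G) * g, ?_, ?_, ?_⟩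
  · have e1 : (k : G) * a' = a' * k := Cfsg.Agent.KFacts.FiTT.comm_d k
    calc (k : G) * g * a * ((k : G) * g)⁻¹ = k * (g * a * g⁻¹) * (k : G)⁻¹ := by group
      _ = a' := by rw [hg1, e1, mul_inv_cancel_right]
  · have e1 : (k : G) * b' = b' * k := by
      have h1 := Cfsg.Agent.KFacts.FiTT.comm_of_P0 hk
      rw [hd2] at h1
      exact h1
    calc (k : G) * g * b * ((k : G) * g)⁻¹ = k * (g * b * g⁻¹) * (k : G)⁻¹ := by group
      _ = b' := by rw [hg2, e1, mul_inv_cancel_right]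
  · calc (k : G) * g * c * ((k : G) * g)⁻¹ = k * (g * c * g⁻¹) * (k : G)⁻¹ := by group
      _ = c' := by
        rw [hw', hv', ← hkw]
        rfl

/-! ### The order of the centraliser -/

theorem card_pointwise {d₁ d₂ d₃ : G} (h₁ : d₁ ∈ D) (h₂ : d₂ ∈ D) (h₃ : d₃ ∈ D) (h12 : d₁ ≠ d₂)
    (h13 : d₁ ≠ d₃) (h23 : d₂ ≠ d₃) (c12 : Commute d₁ d₂) (c13 : Commute d₁ d₃)
    (c23 : Commute d₂ d₃) :
    Nat.card (Subgroup.centralizer ({d₁} : Set G) ⊓ Subgroup.centralizer ({d₂} : Set G) ⊓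
      Subgroup.centralizer ({d₃} : Set G) : Subgroup G) = 147456 := by
  have hcard := card_T6 F h
  have F' := inh F
  have o1 : orb (⊤ : Subgroup G) d₁ = D := by
    ext y
    constructor
    · rintro ⟨g, -, rfl⟩
      exact F'.fd.conj g d₁ h₁
    · intro hy
      obtain ⟨g, hg⟩ := F'.fd.single d₁ h₁ y hy
      exact ⟨g, trivial, hg⟩
  have o2 : orb (Subgroup.centralizer ({d₁} : Set G)) d₂ = Loc D d₁ := by
    ext y
    constructor
    · rintro ⟨g, hg, rfl⟩
      exact Cfsg.Agent.Fischer160.Inherit.cj_mem_Dx F'.fd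
        (Subgroup.mem_centralizer_singleton_iff.1 hg) ⟨h₂, h12.symm, c12⟩
    · intro hy
      obtain ⟨v, hv1, hv2, hv3⟩ : ∃ v ∈ D, v ≠ d₁ ∧ v ≠ d₂ ∧ Commute d₁ v ∧ Commute d₂ v :=
        ⟨d₃, h₃, h13.symm, h23.symm, c13, c23⟩
      obtain ⟨K, i1, i2, f, U⟩ := Cfsg.Agent.S0480U.UModel.exists_um (h.2.1 d₁ h₁)
      obtain ⟨w, hw⟩ : (Loc (Loc D d₁) y).Nonempty := by
        have h6 := (Cfsg.Agent.TSp.UCount.numbers_six (h.2.1 d₁ h₁)).2.1 y hy
        by_contra h0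
        rw [Set.not_nonempty_iff_eq_empty] at h0
        rw [h0, Set.ncard_empty] at h6
        omega
      obtain ⟨g, hg1, hg2, -⟩ := trans_three F h h₁ h₂ h₃ h12 h13 h23 c12 c13 c23 h₁ hy.1 hw.1.1
        hy.2.1.symm hw.1.2.1.symm hw.2.1.symm hy.2.2 hw.1.2.2 hw.2.2
      exact ⟨g, Subgroup.mem_centralizer_singleton_iff.2 (mul_inv_eq_iff_eq_mul.1 hg1), hg2⟩
  have o3 : orb (Subgroup.centralizer ({d₁} : Set G) ⊓ Subgroup.centralizer ({d₂} : Set G)) d₃ =
      Loc (Loc D d₁) d₂ := by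
    ext y
    constructor
    · rintro ⟨g, ⟨hg, hg'⟩, rfl⟩
      have e1 := Cfsg.Agent.Fischer160.Inherit.cj_mem_Dx F'.fd
        (Subgroup.mem_centralizer_singleton_iff.1 hg) ⟨h₃, h13.symm, c13⟩
      have e2 := Cfsg.Agent.Fischer160.Inherit.cj_mem_Dx F'.fd
        (Subgroup.mem_centralizer_singleton_iff.1 hg') ⟨h₃, h23.symm, c23⟩
      exact ⟨e1, e2.2.1, e2.2.2⟩
    · intro hy
      obtain ⟨g, hg1, hg2, hg3⟩ := trans_three F h h₁ h₂ h₃ h12 h13 h23 c12 c13 c23 h₁ h₂ hy.1.1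
        h12 hy.1.2.1.symm hy.2.1.symm c12 hy.1.2.2 hy.2.2
      exact ⟨g, ⟨Subgroup.mem_centralizer_singleton_iff.2 (mul_inv_eq_iff_eq_mul.1 hg1),
        Subgroup.mem_centralizer_singleton_iff.2 (mul_inv_eq_iff_eq_mul.1 hg2)⟩, hg3⟩
  obtain ⟨n1, n2, -⟩ := Cfsg.Agent.TSp.UCount.numbers_six (h.2.1 d₁ h₁)
  have k1 := card_orb (⊤ : Subgroup G) d₁
  have k2 := card_orb (Subgroup.centralizer ({d₁} : Set G)) d₂
  have k3 := card_orb (Subgroup.centralizer ({d₁} : Set G) ⊓ Subgroup.centralizer ({d₂} : Set G)) d₃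
  rw [o1, h.1, top_inf_eq, Subgroup.card_top, hcard] at k1
  rw [o2, n1] at k2
  rw [o3, n2 d₂ ⟨h₂, h12.symm, c12⟩] at k3
  omega

/-- **The order of the centraliser of a product of three commuting members.** -/
theorem card_cent_three {d₁ d₂ d₃ : G} (h₁ : d₁ ∈ D) (h₂ : d₂ ∈ D) (h₃ : d₃ ∈ D) (h12 : d₁ ≠ d₂)
    (h13 : d₁ ≠ d₃) (h23 : d₂ ≠ d₃) (c12 : Commute d₁ d₂) (c13 : Commute d₁ d₃)
    (c23 : Commute d₂ d₃) :
    Nat.card ↥(Subgroup.centralizer ({d₁ * d₂ * d₃} : Set G)) = 2 ^ 16 * 3 ^ 3 := by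
  have F' := inh F
  obtain ⟨a, b, c, hL, hnd, hD, hcm, hp⟩ := hexad F h h₁ h₂ h₃ h12 h13 h23 c12 c13 c23
  simp only [List.nodup_cons, List.mem_cons, List.not_mem_nil, or_false, not_or,
    List.nodup_nil, and_true, not_false_eq_true] at hnd
  obtain ⟨⟨-, -, n1a, n1b, n1c⟩, ⟨-, n2a, n2b, n2c⟩, ⟨n3a, n3b, n3c⟩, ⟨nab, nac⟩, nbc⟩ := hnd
  have ha : a ∈ D := hD a (by simp)
  have hb : b ∈ D := hD b (by simp)
  have hc : c ∈ D := hD c (by simp)
  have cab : Commute a b := hcm a (by simp) b (by simp)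
  have cac : Commute a c := hcm a (by simp) c (by simp)
  have cbc : Commute b c := hcm b (by simp) c (by simp)
  set x := d₁ * d₂ * d₃ with hx
  -- conjugation of the triple
  have hconj : ∀ g : G, g * x * g⁻¹ = (g * d₁ * g⁻¹) * (g * d₂ * g⁻¹) * (g * d₃ * g⁻¹) := by
    intro g
    rw [hx]
    group
  have hcj : ∀ (g : G) {p q : G}, Commute p q → Commute (g * p * g⁻¹) (g * q * g⁻¹) := by
    intro g p q hpq
    exact (Commute.conj_iff g).2 hpq
  have hne : ∀ (g : G) {p q : G}, p ≠ q → g * p * g⁻¹ ≠ g * q * g⁻¹ := by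
    intro g p q hpq h0
    exact hpq (mul_left_cancel (mul_right_cancel h0))
  have toC : ∀ p q r : G, p ∈ D → q ∈ D → r ∈ D → p ≠ q → p ≠ r → q ≠ r → Commute p q →
      Commute p r → Commute q r → p * q * r = x →
      ∃ g ∈ Subgroup.centralizer ({x} : Set G), g * d₁ * g⁻¹ = p ∧ g * d₂ * g⁻¹ = q ∧
        g * d₃ * g⁻¹ = r := by
    intro p q r hp hq hr hpq hpr hqr cpq cpr cqr he
    obtain ⟨g, g1, g2, g3⟩ := trans_three F h h₁ h₂ h₃ h12 h13 h23 c12 c13 c23 hp hq hr hpq hpr hqr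
      cpq cpr cqr
    refine ⟨g, Subgroup.mem_centralizer_singleton_iff.2 (mul_inv_eq_iff_eq_mul.1 ?_), g1, g2, g3⟩
    rw [hconj, g1, g2, g3, he]
  have ofC : ∀ g ∈ Subgroup.centralizer ({x} : Set G),
      (g * d₁ * g⁻¹ ∈ ({d₁, d₂, d₃} : Set G) ∧ g * d₂ * g⁻¹ ∈ ({d₁, d₂, d₃} : Set G) ∧
        g * d₃ * g⁻¹ ∈ ({d₁, d₂, d₃} : Set G)) ∨
      (g * d₁ * g⁻¹ ∈ ({a, b, c} : Set G) ∧ g * d₂ * g⁻¹ ∈ ({a, b, c} : Set G) ∧
        g * d₃ * g⁻¹ ∈ ({a, b, c} : Set G)) := by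
    intro g hg
    apply factor F h h₁ h₂ h₃ h12 h13 h23 c12 c13 c23 hL (F'.fd.conj g _ h₁) (F'.fd.conj g _ h₂)
      (F'.fd.conj g _ h₃) (hne g h12) (hne g h13) (hne g h23) (hcj g c12) (hcj g c13) (hcj g c23)
    rw [← hconj]
    exact mul_inv_eq_iff_eq_mul.2 (Subgroup.mem_centralizer_singleton_iff.1 hg)
  have s1 : ∀ p q r : G, Commute p q → p * q * r = q * p * r := by
    intro p q r hpq; rw [hpq.eq]
  have s2 : ∀ p q r : G, Commute q r → p * q * r = p * r * q := by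
    intro p q r hqr; rw [mul_assoc, hqr.eq, mul_assoc]
  -- the orbit of `d₁`
  have o1 : orb (Subgroup.centralizer ({x} : Set G)) d₁ = {d₁, d₂, d₃, a, b, c} := by
    ext y
    constructor
    · rintro ⟨g, hg, rfl⟩
      rcases ofC g hg with ⟨h0, -, -⟩ | ⟨h0, -, -⟩
      · rcases h0 with h0 | h0 | h0
        · exact Or.inl h0
        · exact Or.inr (Or.inl h0)
        · exact Or.inr (Or.inr (Or.inl h0))
      · exact Or.inr (Or.inr (Or.inr h0))
    · rintro (rfl | rfl | rfl | rfl | rfl | rfl)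
      · exact ⟨1, one_mem _, by group⟩
      · obtain ⟨g, hg, g1, -⟩ := toC y d₁ d₃ h₂ h₁ h₃ h12.symm h23 h13 c12.symm c23 c13
          (s1 _ _ _ c12.symm)
        exact ⟨g, hg, g1⟩
      · obtain ⟨g, hg, g1, -⟩ := toC y d₁ d₂ h₃ h₁ h₂ h13.symm h23.symm h12 c13.symm c23.symm c12
          (by rw [s1 _ _ _ c13.symm, s2 _ _ _ c23.symm])
        exact ⟨g, hg, g1⟩
      · obtain ⟨g, hg, g1, -⟩ := toC y b c ha hb hc nab nac nbc cab cac cbc hp.symm
        exact ⟨g, hg, g1⟩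
      · obtain ⟨g, hg, g1, -⟩ := toC y a c hb ha hc (Ne.symm nab) nbc nac cab.symm cbc cac
          (by rw [s1 _ _ _ cab.symm, ← hp])
        exact ⟨g, hg, g1⟩
      · obtain ⟨g, hg, g1, -⟩ := toC y a b hc ha hb (Ne.symm nac) (Ne.symm nbc) nab cac.symm cbc.symm cab
          (by rw [s1 _ _ _ cac.symm, s2 _ _ _ cbc.symm, ← hp])
        exact ⟨g, hg, g1⟩
  have o1c : ({d₁, d₂, d₃, a, b, c} : Set G).ncard = 6 := by
    rw [Set.ncard_insert_of_notMem (by simp [h12, h13, n1a, n1b, n1c]),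
      Set.ncard_insert_of_notMem (by simp [h23, n2a, n2b, n2c]),
      Set.ncard_insert_of_notMem (by simp [n3a, n3b, n3c]),
      Set.ncard_insert_of_notMem (by simp [nab, nac]), Set.ncard_pair nbc]
  -- the orbit of `d₂` under the stabiliser of `d₁`
  have o2 : orb (Subgroup.centralizer ({x} : Set G) ⊓ Subgroup.centralizer ({d₁} : Set G)) d₂ =
      {d₂, d₃} := by
    ext y
    constructor
    · rintro ⟨g, ⟨hg, hg'⟩, rfl⟩
      have e1 : g * d₁ * g⁻¹ = d₁ :=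
        mul_inv_eq_iff_eq_mul.2 (Subgroup.mem_centralizer_singleton_iff.1 hg')
      have e2 := hne g h12
      rw [e1] at e2
      rcases ofC g hg with ⟨-, h0, -⟩ | ⟨h0, -, -⟩
      · rcases h0 with h0 | h0 | h0
        · exact absurd h0.symm e2
        · exact Or.inl h0
        · exact Or.inr h0
      · rw [e1] at h0
        rcases h0 with h0 | h0 | h0
        · exact absurd h0 n1a
        · exact absurd h0 n1b
        · exact absurd h0 n1c
    · rintro (rfl | rfl)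
      · exact ⟨1, one_mem _, by group⟩
      · obtain ⟨g, hg, g1, g2, -⟩ := toC d₁ y d₂ h₁ h₃ h₂ h13 h12 h23.symm c13 c12 c23.symm
          (s2 _ _ _ c23.symm)
        exact ⟨g, ⟨hg, Subgroup.mem_centralizer_singleton_iff.2 (mul_inv_eq_iff_eq_mul.1 g1)⟩, g2⟩
  have hinf : Subgroup.centralizer ({x} : Set G) ⊓ Subgroup.centralizer ({d₁} : Set G) ⊓
      Subgroup.centralizer ({d₂} : Set G) = Subgroup.centralizer ({d₁} : Set G) ⊓
      Subgroup.centralizer ({d₂} : Set G) ⊓ Subgroup.centralizer ({d₃} : Set G) := by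
    ext g
    simp only [Subgroup.mem_inf, Subgroup.mem_centralizer_singleton_iff]
    constructor
    · rintro ⟨⟨gx, g1⟩, g2⟩
      refine ⟨⟨g1, g2⟩, ?_⟩
      have c1 : Commute g d₁ := g1
      have c2 : Commute g d₂ := g2
      have c3 : Commute g x := gx
      have e : d₃ = (d₁ * d₂)⁻¹ * x := by rw [hx]; group
      have : Commute g d₃ := by
        rw [e]
        exact (c1.mul_right c2).inv_right.mul_right c3
      exact this
    · rintro ⟨⟨g1, g2⟩, g3⟩
      refine ⟨⟨?_, g1⟩, g2⟩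
      have c1 : Commute g d₁ := g1
      have c2 : Commute g d₂ := g2
      have c3 : Commute g d₃ := g3
      exact ((c1.mul_right c2).mul_right c3)
  have k1 := card_orb (Subgroup.centralizer ({x} : Set G)) d₁
  have k2 := card_orb (Subgroup.centralizer ({x} : Set G) ⊓ Subgroup.centralizer ({d₁} : Set G)) d₂
  rw [o2, Set.ncard_pair h23, hinf, card_pointwise F h h₁ h₂ h₃ h12 h13 h23 c12 c13 c23] at k2
  rw [o1, o1c, k2] at k1
  rw [k1]
  norm_num

end

end Cfsg.Agent.H832.ThreeProd
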